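import Mathlib
import Groth.Agent.NormSect.Basic

/-!
An integral normal scheme over a field which becomes reducible over a finite Galois extension
lives over a nontrivial subextension.
-/

universe u
open AlgebraicGeometry CategoryTheory Limits Polynomial TopologicalSpace
open scoped TensorProduct
set_option backward.isDefEq.respectTransparency false
set_option linter.style.haveILetI false

namespace Groth.Agent.QsFactor

/-- An element of the function field lying in every stalk is a global section. -/
theorem exists_global {X : Scheme.{u}} [IsIntegral X] (b : X.functionField)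
    (hb : ∀ x : X, b ∈ Set.range (algebraMap (X.presheaf.stalk x) X.functionField)) :
    ∃ s : Γ(X, ⊤), X.presheaf.germ ⊤ (genericPoint X) trivial s = b := by
  haveI : Nonempty ((⊤ : X.Opens) : Scheme.{u}) := ⟨⟨genericPoint X, trivial⟩⟩
  have hloc : ∀ p : X, ∃ (V : X.Opens) (_ : Nonempty V) (_ : p ∈ V) (s : Γ(X, V)),
      X.germToFunctionField V s = b := by
    intro p
    obtain ⟨t, ht⟩ := hb p
    obtain ⟨V, hpV, s, hs⟩ := X.presheaf.germ_exist t
    haveI : Nonempty V := ⟨⟨p, hpV⟩⟩
    refine ⟨V, inferInstance, hpV, s, ?_⟩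
    rw [← ht, ← hs]
    exact (X.presheaf.germ_stalkSpecializes_apply (U := V) hpV
      ((genericPoint_spec X).specializes (Set.mem_univ p)) s).symm
  choose V hne hpV s hs using hloc
  have hcompat : TopCat.Presheaf.IsCompatible X.presheaf V s := by
    intro i j
    haveI := hne i; haveI := hne j
    have hne' : ((V i : Set X) ∩ V j).Nonempty :=
      nonempty_preirreducible_inter (V i).2 (V j).2 ⟨i, hpV i⟩ ⟨j, hpV j⟩
    haveI : Nonempty ((V i ⊓ V j : X.Opens) : Scheme.{u}) := hne'.to_subtype
    apply germ_injective_of_isIntegral X (genericPoint X)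
      (((genericPoint_spec X).mem_open_set_iff (V i ⊓ V j).2).2 (by simpa using hne'))
    exact ((NormSect.germTo_res inf_le_left (s i)).trans ((hs i).trans (hs j).symm)).trans
      (NormSect.germTo_res inf_le_right (s j)).symm
  obtain ⟨σ, hσ, -⟩ := X.sheaf.existsUnique_gluing' V ⊤ (fun i => homOfLE le_top)
    (fun x _ => Opens.mem_iSup.2 ⟨x, hpV x⟩) s hcompat
  refine ⟨σ, ?_⟩
  obtain ⟨p⟩ := (inferInstance : Nonempty X)
  haveI := hne p
  rw [← hs p, ← hσ p]
  exact (NormSect.germTo_res le_top σ).symm

/-- Linear disjointness for a finite Galois extension meeting the other field in the base. -/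
theorem linearDisjoint_of_inter (k L Kf E : Type u) [Field k] [Field L] [Algebra k L]
    [FiniteDimensional k L] [IsGalois k L] [Field Kf] [Algebra k Kf] [Field E] [Algebra k E]
    [Algebra Kf E] [IsScalarTower k Kf E] (φ : L →ₐ[k] E)
    (h : ∀ a : L, φ a ∈ Set.range (algebraMap Kf E) → a ∈ Set.range (algebraMap k L)) :
    φ.fieldRange.LinearDisjoint Kf := by
  obtain ⟨α, hα⟩ := Field.exists_primitive_element k L
  have hint : IsIntegral k α := IsIntegral.of_finite k α
  let pb : PowerBasis k L := (IntermediateField.adjoin.powerBasis hint).map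
    ((IntermediateField.equivOfEq hα).trans IntermediateField.topEquiv)
  let e : L ≃ₐ[k] φ.fieldRange := AlgEquiv.ofInjectiveField φ
  refine IntermediateField.LinearDisjoint.of_basis_left (pb.basis.map e.toLinearEquiv) ?_
  have hgen : ∀ i, ((φ.fieldRange.val ∘ pb.basis.map e.toLinearEquiv) i) = φ pb.gen ^ (i : ℕ) := by
    intro i
    show φ (pb.basis i) = _
    rw [pb.basis_eq_pow, map_pow]
  rw [show (⇑φ.fieldRange.val ∘ ⇑(pb.basis.map e.toLinearEquiv)) = fun i : Fin pb.dim => φ pb.gen ^ (i : ℕ)
    from funext hgen]
  have hβ : IsIntegral Kf (φ pb.gen) := ((IsIntegral.of_finite k pb.gen).map φ).tower_top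
  -- the minimal polynomial over `Kf` is defined over `k`
  let g := minpoly Kf (φ pb.gen)
  have hsplit : ((minpoly k pb.gen).map (algebraMap k L)).Splits :=
    Normal.splits inferInstance _
  have hdvd : g.map (algebraMap Kf E) ∣ ((minpoly k pb.gen).map (algebraMap k L)).map φ.toRingHom := by
    rw [Polynomial.map_map, show φ.toRingHom.comp (algebraMap k L) = algebraMap k E from φ.comp_algebraMap,
      IsScalarTower.algebraMap_eq k Kf E, ← Polynomial.map_map]
    refine Polynomial.map_dvd _ (minpoly.dvd _ _ ?_)
    rw [aeval_map_algebraMap, aeval_algHom_apply, minpoly.aeval, map_zero]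
  have hlift : g.map (algebraMap Kf E) ∈ Polynomial.lifts φ.toRingHom := by
    have hs : (g.map (algebraMap Kf E)).Splits :=
      (hsplit.map φ.toRingHom).of_dvd (Polynomial.map_ne_zero
        (Polynomial.map_ne_zero (minpoly.ne_zero (IsIntegral.of_finite k pb.gen)))) hdvd
    rw [hs.eq_prod_roots_of_monic ((minpoly.monic hβ).map _)]
    refine multiset_prod_mem _ fun q hq => ?_
    obtain ⟨r, hr, rfl⟩ := Multiset.mem_map.1 hq
    have hr' : r ∈ (((minpoly k pb.gen).map (algebraMap k L)).map φ.toRingHom).roots :=
      Multiset.mem_of_le (Polynomial.roots.le_of_dvd (Polynomial.map_ne_zero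
        (Polynomial.map_ne_zero (minpoly.ne_zero (IsIntegral.of_finite k pb.gen)))) hdvd) hr
    rw [hsplit.roots_map φ.toRingHom, Multiset.mem_map] at hr'
    obtain ⟨r0, -, rfl⟩ := hr'
    exact ⟨X - C r0, by simp⟩
  have hcoef : ∀ i, g.coeff i ∈ Set.range (algebraMap k Kf) := by
    intro i
    obtain ⟨a, ha⟩ := (Polynomial.lifts_iff_coeff_lifts _).1 hlift i
    rw [coeff_map] at ha
    obtain ⟨c, hc⟩ := h a ⟨_, ha.symm⟩
    refine ⟨c, (algebraMap Kf E).injective ?_⟩
    rw [← IsScalarTower.algebraMap_apply, ← ha, ← hc]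
    exact (φ.commutes c).symm
  obtain ⟨g0, hg0, hdeg, hmon⟩ := lifts_and_degree_eq_and_monic
    ((lifts_iff_coeff_lifts g).2 hcoef) (minpoly.monic hβ)
  have hroot : aeval pb.gen g0 = 0 := by
    refine φ.toRingHom.injective ?_
    change φ (aeval pb.gen g0) = φ 0
    rw [← aeval_algHom_apply, ← aeval_map_algebraMap Kf, hg0, minpoly.aeval, map_zero]
  have hle : pb.dim ≤ g.natDegree := by
    rw [← pb.natDegree_minpoly, ← Polynomial.natDegree_eq_of_degree_eq hdeg]
    exact natDegree_le_of_dvd (minpoly.dvd _ _ hroot) hmon.ne_zero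
  exact (linearIndependent_pow (φ pb.gen)).comp (Fin.castLE hle) (Fin.castLE_injective hle)

/-- A normal integral scheme which becomes reducible over a finite Galois extension is defined over
a nontrivial intermediate field. -/
theorem exists_factor (k : Type u) [Field k] (X : Scheme.{u}) [X.Over (Spec (CommRingCat.of k))]
    [IsIntegral X] (hX : ∀ x : X, IsIntegrallyClosed (X.presheaf.stalk x))
    (L : Type u) [Field L] [Algebra k L] [FiniteDimensional k L] [IsGalois k L]
    (hred : ¬ IrreducibleSpace ↥(pullback (X ↘ Spec (CommRingCat.of k)) (Spec.map (CommRingCat.ofHom (algebraMap k L))))) :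
    ∃ F : IntermediateField k L, F ≠ ⊥ ∧
      ∃ g : X ⟶ Spec (CommRingCat.of F),
        g ≫ Spec.map (CommRingCat.ofHom (algebraMap k F)) = X ↘ Spec (CommRingCat.of k) := by
  classical
  let i : CommRingCat.of k ⟶ Γ(X, ⊤) := (Scheme.ΓSpecIso _).inv ≫ (X ↘ Spec (CommRingCat.of k)).appTop
  let gη : Γ(X, ⊤) ⟶ X.functionField := X.presheaf.germ ⊤ (genericPoint X) trivial
  letI : Algebra k X.functionField := (i ≫ gη).hom.toAlgebra
  let E := AlgebraicClosure X.functionField
  let φ : L →ₐ[k] E := IsAlgClosed.lift
  let P : IntermediateField k L :=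
    (IsScalarTower.toAlgHom k X.functionField E).fieldRange.comap φ
  by_cases hP : P = ⊥
  · exfalso
    apply hred
    have hdis := linearDisjoint_of_inter k L X.functionField E φ fun a ha => by
      have ha' : a ∈ P := ha
      rw [hP] at ha'
      exact IntermediateField.mem_bot.1 ha'
    have hfld : IsField (X.functionField ⊗[k] L) := by
      refine ((Algebra.TensorProduct.comm k L X.functionField).symm.trans
        (Algebra.TensorProduct.congr (AlgEquiv.ofInjectiveField φ) AlgEquiv.refl)).toMulEquiv.isField
        (hdis.isField_of_isAlgebraic (Or.inl ?_))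
      exact (AlgEquiv.ofInjectiveField φ).isAlgebraic
    letI := hfld.toField
    set fK := Spec.map (CommRingCat.ofHom (algebraMap k L))
    set η := genericPoint X
    have hgen : X.fromSpecStalk η ≫ (X ↘ Spec (CommRingCat.of k)) =
        Spec.map (CommRingCat.ofHom (algebraMap k X.functionField)) := by
      apply ext_of_isAffine
      rw [Scheme.Hom.comp_appTop, Scheme.fromSpecStalk_appTop]
      rw [← cancel_epi (Scheme.ΓSpecIso (CommRingCat.of k)).inv, ← Scheme.ΓSpecIso_inv_naturality]
      simp only [homOfLE_refl, op_id, CategoryTheory.Functor.map_id, Category.comp_id]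
      rfl
    let e : pullback (X.fromSpecStalk η) (pullback.fst (X ↘ Spec (CommRingCat.of k)) fK) ≅
        Spec (CommRingCat.of (X.functionField ⊗[k] L)) :=
      pullbackRightPullbackFstIso _ fK _ ≪≫ pullback.congrHom hgen rfl ≪≫ pullbackSpecIso k X.functionField L
    have hsub : Subsingleton ↥(pullback (X.fromSpecStalk η) (pullback.fst (X ↘ Spec (CommRingCat.of k)) fK)) := by
      haveI : Subsingleton ↥(Spec (CommRingCat.of (X.functionField ⊗[k] L))) :=
        inferInstanceAs (Subsingleton (PrimeSpectrum (X.functionField ⊗[k] L)))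
      exact e.hom.homeomorph.injective.subsingleton
    obtain ⟨w⟩ : Nonempty ↥(pullback (X.fromSpecStalk η) (pullback.fst (X ↘ Spec (CommRingCat.of k)) fK)) :=
      ⟨e.inv (show PrimeSpectrum (X.functionField ⊗[k] L) from default)⟩
    let y0 := pullback.snd (X.fromSpecStalk η) (pullback.fst (X ↘ Spec (CommRingCat.of k)) fK) w
    have huniq : ∀ y, pullback.fst (X ↘ Spec (CommRingCat.of k)) fK y = η → y = y0 := by
      intro y hy
      have : y ∈ Set.range (pullback.snd (X.fromSpecStalk η) (pullback.fst (X ↘ Spec (CommRingCat.of k)) fK)) := by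
        rw [Scheme.Pullback.range_snd, Set.mem_preimage, hy, Scheme.range_fromSpecStalk]
        exact specializes_rfl
      obtain ⟨w', rfl⟩ := this
      rw [Subsingleton.elim w' w]
    haveI : Flat fK := (HasRingHomProperty.Spec_iff (P := @Flat)).mpr
      (RingHom.flat_algebraMap_iff.mpr (inferInstance : Module.Flat k L))
    have huniv : closure ({y0} : Set _) = Set.univ := by
      refine Set.eq_univ_of_forall fun y => ?_
      obtain ⟨y', hy', hy''⟩ := Flat.generalizingMap (pullback.fst (X ↘ Spec (CommRingCat.of k)) fK)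
        ((genericPoint_spec X).specializes (Set.mem_univ (pullback.fst (X ↘ Spec (CommRingCat.of k)) fK y)))
      rw [huniq y' hy''] at hy'
      exact hy'.mem_closure
    exact { toPreirreducibleSpace := ⟨huniv ▸ isIrreducible_singleton.closure.2⟩, toNonempty := ⟨y0⟩ }
  · refine ⟨P, hP, ?_⟩
    let ι : X.functionField →ₐ[k] E := IsScalarTower.toAlgHom k X.functionField E
    have hex : ∀ a : P, ∃ b, ι b = φ a := fun a => a.2
    choose b hb using hex
    let ψ : P →ₐ[k] X.functionField :=
      ((AlgEquiv.ofInjectiveField ι).symm.toAlgHom).comp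
        ((φ.comp P.val).codRestrict ι.range fun a => ⟨b a, hb a⟩)
    have hglob : ∀ a : P, ∃ s : Γ(X, ⊤), gη s = ψ a := by
      intro a
      refine exists_global _ fun x => ?_
      haveI := hX x
      refine IsIntegrallyClosed.isIntegral_iff.1 ?_
      have hk : IsIntegral k (ψ a) := (IsIntegral.of_finite k a).map ψ
      obtain ⟨p, hp, h0⟩ := hk
      refine ⟨p.map (i ≫ X.presheaf.germ ⊤ x trivial).hom, hp.map _, ?_⟩
      rw [Polynomial.eval₂_map]
      have hc : (algebraMap (X.presheaf.stalk x) X.functionField).comp (i ≫ X.presheaf.germ ⊤ x trivial).hom =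
          algebraMap k X.functionField := by
        ext r
        exact X.presheaf.germ_stalkSpecializes_apply (U := ⊤) trivial
          ((genericPoint_spec X).specializes (Set.mem_univ x)) (i r)
      rw [hc, h0]
    choose s hs using hglob
    have hinj : Function.Injective gη := germ_injective_of_isIntegral X _ _
    let σ : P →+* Γ(X, ⊤) :=
      { toFun := s
        map_one' := hinj (by rw [hs, map_one, map_one])
        map_mul' := fun a a' => hinj (by rw [hs, map_mul, map_mul, hs, hs])
        map_zero' := hinj (by rw [hs, map_zero, map_zero])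
        map_add' := fun a a' => hinj (by rw [hs, map_add, map_add, hs, hs]) }
    refine ⟨X.toSpecΓ ≫ Spec.map (CommRingCat.ofHom σ), ?_⟩
    rw [Category.assoc, ← Spec.map_comp]
    have hσ : CommRingCat.ofHom (algebraMap k P) ≫ CommRingCat.ofHom σ = i := by
      ext r
      apply hinj
      exact (hs _).trans (ψ.commutes r)
    rw [hσ]
    apply ext_of_isAffine
    simp [i]

end Groth.Agent.QsFactor
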